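import Cfsg.Agent.H69.J4U.Assembly

/-!
Elements satisfying the relators of presented J4 identify a group of Janko-four type with it.
-/

set_option autoImplicit false

namespace Cfsg.Agent.H69.J4U

open Cfsg.Agent.H56.J4

universe u

variable {G : Type u} [Group G] [Finite G] [IsSimpleGroup G]

/-- The images of the three generators. -/
def genFun (x y t : G) : Cfsg.Spor.J4.Gen → G
  | .x => x
  | .y => y
  | .t => t

/-- A group of Janko-four type with three elements satisfying the relators, the third non-trivial, is J4. -/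
theorem isoJ4_of_rels (hG : ¬ IsMulCommutative G) {z : G} (hJ : Cfsg.IsOfJankoFourTypeAt z)
    (x y t : G) (ht : t ≠ 1)
    (hrel : ∀ r ∈ Cfsg.Spor.J4.extra, FreeGroup.lift (genFun x y t) r = 1) : Cfsg.Spor.IsoJ4 G := by
  have hall : ∀ r ∈ Cfsg.Spor.coxRelators Cfsg.Spor.J4.edges ∪ {r | r ∈ Cfsg.Spor.J4.extra},
      FreeGroup.lift (genFun x y t) r = 1 := by
    rintro r (⟨a, ha, -⟩ | h)
    · simp [Cfsg.Spor.coxNodes, Cfsg.Spor.J4.edges] at ha
    · exact hrel r h
  refine isoJ4_of_hom hG hJ (PresentedGroup.toGroup hall) ?_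
  rw [jt, PresentedGroup.toGroup.of]
  exact ht

omit [Finite G] [IsSimpleGroup G] in
/-- The order of a group isomorphic to presented J4. -/
theorem card_of_iso (h : Cfsg.Spor.IsoJ4 G) : Nat.card G = 86775571046077562880 := by
  obtain ⟨e⟩ := h
  rw [Nat.card_congr e.toEquiv]
  exact card_J

end Cfsg.Agent.H69.J4U
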