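import Cfsg.Prelude.Def_JankoFourType
import Cfsg.Agent.H49.EngelControl
import Cfsg.Agent.H92.ExtraIso

/-!
The Janko-four type hypotheses pass to a subgroup containing the centraliser of the involution.
-/

set_option autoImplicit false

namespace Cfsg.Agent.H69.J4U

open Subgroup

universe u v

variable {X : Type u} [Group X] [Finite X] {G : Type v} [Group G] [Finite G]

omit [Finite X] [Finite G] in
theorem map_centralizer_inf {f : X →* G} (hf : Function.Injective f) (S : Set X) :
    (centralizer S).map f = f.range ⊓ centralizer (f '' S) := by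
  ext g
  constructor
  · rintro ⟨a, ha, rfl⟩
    refine mem_inf.2 ⟨⟨a, rfl⟩, mem_centralizer_iff.2 ?_⟩
    rintro _ ⟨s, hs, rfl⟩
    rw [← map_mul, ← map_mul, mem_centralizer_iff.1 ha s hs]
  · intro hg
    obtain ⟨⟨a, rfl⟩, hc⟩ := mem_inf.1 hg
    exact ⟨a, mem_centralizer_iff.2 fun s hs =>
      hf (by rw [map_mul, map_mul]; exact mem_centralizer_iff.1 hc (f s) ⟨s, hs, rfl⟩), rfl⟩

/-- A group of Janko-four type restricts to a subgroup containing the centraliser of the involution. -/
theorem type_restrict {f : X →* G} (hf : Function.Injective f) {z : X} {P : Subgroup G}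
    (hz : centralizer ({f z} : Set G) ≤ f.range) (hJ : Cfsg.IsOfJankoFourTypeWith (f z) P) :
    Cfsg.IsOfJankoFourTypeWith z (P.comap f) := by
  classical
  obtain ⟨hord, hE, hcardE, hcent, ⟨N, hEN, hNH, hHN, hcardN, ⟨hn, ⟨e⟩⟩, hPN⟩, hP, hfix, hNC, hcomm⟩ := hJ
  set H := centralizer ({z} : Set X) with hH
  have hHm : H.map f = centralizer ({f z} : Set G) := by
    rw [hH, map_centralizer_inf hf, Set.image_singleton, inf_eq_right.2 hz]
  have hEm : (Cfsg.twoCoreOfCentralizer z).map f = Cfsg.twoCoreOfCentralizer (f z) := by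
    show (Cfsg.pCoreOf 2 H).map f = Cfsg.pCoreOf 2 (centralizer ({f z} : Set G))
    haveI : Fact (Nat.Prime 2) := ⟨Nat.prime_two⟩
    rw [H49.pCoreOf_map hf, hHm]
  have hPr : P ≤ f.range := (hPN.trans hNH).trans hz
  set P' := P.comap f with hP'
  have hPm : P'.map f = P := map_comap_eq_self hPr
  set N' := N.comap f with hN'
  have hNm : N'.map f = N := map_comap_eq_self (hNH.trans hz)
  have hcP : (H ⊓ centralizer (P' : Set X)).map f =
      centralizer ({f z} : Set G) ⊓ centralizer (P : Set G) := by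
    rw [Subgroup.map_inf _ _ _ hf, hHm, map_centralizer_inf hf, ← Subgroup.coe_map, hPm,
      ← inf_assoc, inf_eq_left.2 hz]
  have hnP : (H ⊓ normalizer (P' : Set X)).map f =
      centralizer ({f z} : Set G) ⊓ normalizer (P : Set G) := by
    apply le_antisymm
    · rw [Subgroup.map_inf _ _ _ hf, hHm]
      exact inf_le_inf le_rfl (by rw [← hPm]; exact le_normalizer_map f)
    · intro g hg
      obtain ⟨hg1, hg2⟩ := mem_inf.1 hg
      rw [← hHm] at hg1
      obtain ⟨a, ha, rfl⟩ := hg1
      refine ⟨a, mem_inf.2 ⟨ha, mem_normalizer_iff.2 fun b => ?_⟩, rfl⟩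
      show f b ∈ P ↔ f (a * b * a⁻¹) ∈ P
      rw [map_mul, map_mul, map_inv]
      exact mem_normalizer_iff.1 hg2 (f b)
  let eE : ↥(Cfsg.twoCoreOfCentralizer z) ≃* ↥(Cfsg.twoCoreOfCentralizer (f z)) :=
    ((Cfsg.twoCoreOfCentralizer z).equivMapOfInjective f hf).trans (MulEquiv.subgroupCongr hEm)
  refine ⟨by rw [← hord, orderOf_injective f hf], H92.isExtraspecial_of_mulEquiv eE.symm hE,
    by rw [Nat.card_congr eE.toEquiv]; exact hcardE, ?_, ⟨N', ?_, ?_, ?_, ?_, ?_, ?_⟩, ?_, ?_, ?_, ?_⟩
  · rw [← Subgroup.map_le_map_iff_of_injective hf, Subgroup.map_inf _ _ _ hf, hHm, hEm,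
      map_centralizer_inf hf, ← Subgroup.coe_map, hEm]
    exact (inf_le_inf le_rfl inf_le_right).trans hcent
  · rw [← Subgroup.map_le_map_iff_of_injective hf, hEm, hNm]; exact hEN
  · rw [← Subgroup.map_le_map_iff_of_injective hf, hNm, hHm]; exact hNH
  · intro a ha
    refine mem_normalizer_iff.2 fun b => ?_
    show f b ∈ N ↔ f (a * b * a⁻¹) ∈ N
    rw [map_mul, map_mul, map_inv]
    exact mem_normalizer_iff.1 (hHN (by rw [← hHm]; exact ⟨a, ha, rfl⟩)) (f b)
  · rw [Nat.card_congr (N'.equivMapOfInjective f hf).toEquiv,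
      Nat.card_congr ((Cfsg.twoCoreOfCentralizer z).equivMapOfInjective f hf).toEquiv, hNm, hEm]
    exact hcardN
  · set φ : ↥H ≃* ↥(centralizer ({f z} : Set G)) :=
      (H.equivMapOfInjective f hf).trans (MulEquiv.subgroupCongr hHm) with hφ
    have hco : N'.subgroupOf H = (N.subgroupOf (centralizer ({f z} : Set G))).comap φ.toMonoidHom := by
      ext x; rfl
    have hnor : (N'.subgroupOf H).Normal := by rw [hco]; exact hn.comap _
    refine ⟨hnor, ⟨(QuotientGroup.congr _ _ φ ?_).trans e⟩⟩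
    rw [hco]
    exact Subgroup.map_comap_eq_self_of_surjective φ.surjective _
  · rw [← Subgroup.map_le_map_iff_of_injective hf, hPm, hNm]; exact hPN
  · rw [Nat.card_congr (P'.equivMapOfInjective f hf).toEquiv, hPm]; exact hP
  · refine Subgroup.map_injective hf ?_
    rw [Subgroup.map_inf _ _ _ hf, hEm, map_centralizer_inf hf, ← Subgroup.coe_map, hPm,
      MonoidHom.map_zpowers, ← hfix, ← inf_assoc]
    congr 1
    exact inf_eq_left.2 ((hEN.trans hNH).trans hz)
  · intro h
    exact hNC (by rw [← hnP, ← hcP, h])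
  · rw [← Subgroup.map_le_map_iff_of_injective hf, hPm, Subgroup.map_commutator, hcP]; exact hcomm

end Cfsg.Agent.H69.J4U
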