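import Cfsg.Agent.H69.J4U.Hexad
import Cfsg.Agent.H69.J4U.Restrict
import Cfsg.Agent.H54.AutTwentyTwo.Cent
import Cfsg.Agent.H54.JFour.Pre
import Cfsg.Agent.H38.JFour.SecondClass
import Cfsg.Agent.S1703

/-!
A group of Janko-four type that is a non-trivial image of presented J4 is isomorphic to it.
-/

set_option autoImplicit false
set_option maxRecDepth 100000

namespace Cfsg.Agent.H69.J4U

open scoped Pointwise
open Subgroup Cfsg.Agent.H43.JFour Cfsg.Agent.H98.JFour Cfsg.Agent.H56.J4 Cfsg.Agent.Golay Cfsg.Agent.H94.M24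

universe u

section Facts

theorem elem_map {X : Type*} [Group X] {Y : Type*} [Group Y] (f : X →* Y) {S : Subgroup X}
    (hS : Cfsg.IsElementaryAbelian 2 S) : Cfsg.IsElementaryAbelian 2 (S.map f) := by
  refine ⟨⟨⟨?_⟩⟩, ?_⟩
  · rintro ⟨_, a, ha, rfl⟩ ⟨_, b, hb, rfl⟩
    apply Subtype.ext
    show f a * f b = f b * f a
    haveI := hS.1
    rw [← map_mul, ← map_mul, show a * b = b * a from congrArg Subtype.val (mul_comm' (⟨a, ha⟩ : S) ⟨b, hb⟩)]
  · rintro _ ⟨a, ha, rfl⟩
    rw [← map_pow, hS.2 a ha, map_one]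

/-- The element of order 21 of the trio stabiliser. -/
noncomputable def uT : ℕ := mulR Up.xT Up.wT

theorem u_tables : (inM24 uT && tblEq (H94.M24.powT 21 uT) idTblVal &&
    !tblEq (H94.M24.powT 7 uT) idTblVal && !tblEq (H94.M24.powT 3 uT) idTblVal) = true := by
  decide +kernel

theorem orderOf_u : orderOf (gX * gW) = 21 := by
  have h := u_tables
  simp only [Bool.and_eq_true, Bool.not_eq_true'] at h
  obtain ⟨⟨⟨h0, h1⟩, h7⟩, h3⟩ := h
  have hv := Cfsg.Agent.Golay.validT_of_inM24 h0
  have hid := idTblVal_spec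
  have key : ∀ n, Cfsg.Agent.Golay.tblEq (H94.M24.powT n uT) idTblVal = true ↔
      (gX * gW) ^ n = 1 := by
    intro n
    obtain ⟨hvn, hpn⟩ := H94.M24.powT_spec hv n
    rw [tblEq_iff hvn hid.1, hpn, hid.2, Subtype.ext_iff, SubmonoidClass.coe_pow,
      Subgroup.coe_mul, Subgroup.coe_one,
      show ((gX : Equiv.Perm GolayPt) * (gW : Equiv.Perm GolayPt)) = (mkPerm uT)⁻¹ from
        (gv_mulR val_xT.1 val_wT.1).symm, inv_pow, inv_eq_one]
  have e21 := (key 21).1 h1
  have hd : orderOf (gX * gW) ∈ Nat.divisors 21 :=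
    Nat.mem_divisors.2 ⟨orderOf_dvd_of_pow_eq_one e21, by norm_num⟩
  have hn7 : ¬ orderOf (gX * gW) ∣ 7 := fun h' => by
    rw [(key 7).2 (orderOf_dvd_iff_pow_eq_one.1 h')] at h7; exact Bool.noConfusion h7
  have hn3 : ¬ orderOf (gX * gW) ∣ 3 := fun h' => by
    rw [(key 3).2 (orderOf_dvd_iff_pow_eq_one.1 h')] at h3; exact Bool.noConfusion h3
  have hall : ∀ j ∈ Nat.divisors 21, ¬ j ∣ 7 → ¬ j ∣ 3 → j = 21 := by decide +kernel
  exact hall _ hd hn7 hn3

theorem jt_comm_u : Commute jt (phi (gX * gW)) := by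
  rw [map_mul]
  exact (show Commute jt (phi gX) from (phi_gX ▸ jt_comm_x).symm).mul_right jt_comm_w.symm

theorem elem_EE : Cfsg.IsElementaryAbelian 2 E.EE := by
  have key : ∀ a ∈ E.EE, ∀ b ∈ E.EE, Commute a b := by
    intro a ha b hb
    induction hb using Subgroup.closure_induction with
    | mem c hc =>
      induction ha using Subgroup.closure_induction with
      | mem d hd => exact E.bs_spec.2 d hd c hc
      | one => exact Commute.one_left _
      | mul x y _ _ hx hy => exact hx.mul_left hy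
      | inv x _ hx => exact hx.inv_left
    | one => exact Commute.one_right a
    | mul x y _ _ hx hy => exact hx.mul_right hy
    | inv x _ hx => exact hx.inv_right
  refine ⟨⟨⟨fun a b => Subtype.ext (key a a.2 b b.2).eq⟩⟩, fun a ha => ?_⟩
  induction ha using Subgroup.closure_induction with
  | mem c hc => rw [pow_two]; exact E.bs_spec.1 c hc
  | one => exact one_pow 2
  | mul x y hx' hy' hx hy => rw [(key x hx' y hy').mul_pow, hx, hy, one_mul]
  | inv x _ hx => rw [inv_pow, hx, inv_one]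

theorem card_J : Nat.card J = 86775571046077562880 := S1703.card

theorem card_HH : Nat.card HH = 2 ^ 11 * 244823040 := by
  haveI : Finite J := Nat.finite_of_card_ne_zero (by rw [card_J]; norm_num)
  refine Nat.dvd_antisymm HH_card_dvd ?_
  have h := H16.J4Low.card_H_dvd phi phi_range
  have e : (vH.map jl).prod = (jy * jx) ^ 4 * jy⁻¹ * jx := by
    simp [vH, jl_zero, jl_one, jl_two, pow_succ, mul_assoc]
  rw [mul_comm (2 ^ 11), show HH = Subgroup.closure {jx, jy, hh} from rfl, hh, e]
  exact h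

theorem card_EE : Nat.card E.EE = 2 ^ 11 := by
  haveI : Finite J := Nat.finite_of_card_ne_zero (by rw [card_J]; norm_num)
  refine le_antisymm (E.EE_card.2.trans (by norm_num)) ?_
  have hle : ((HH : Subgroup J) : Set J) ⊆ (E.EE : Set J) * (phi.range : Set J) := by
    intro g hg
    rw [HH_eq_sup] at hg
    rw [← coe_mul_of_right_le_normalizer_left E.EE phi.range ?_]
    · exact hg
    · intro r hr
      refine mem_normalizer_iff.2 fun a => ⟨fun ha => ?_, fun ha => ?_⟩
      · simpa using E.range_normalizes r⁻¹ (inv_mem hr) a ha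
      · simpa [mul_assoc] using E.range_normalizes r hr _ ha
  have h1 : Nat.card HH ≤ Nat.card E.EE * Nat.card phi.range :=
    (Nat.card_mono (Set.toFinite _) hle).trans Set.natCard_mul_le
  rw [card_HH, ← Nat.card_congr (MonoidHom.ofInjective phi_injective).toEquiv,
    Cfsg.Agent.Golay.card_M24] at h1
  exact Nat.le_of_mul_le_mul_right h1 (by norm_num)

theorem HH_le_norm : HH ≤ normalizer (E.EE : Set J) := by
  rw [HH_eq_sup]
  refine sup_le Subgroup.le_normalizer fun r hr => mem_normalizer_iff.2 fun a => ⟨fun ha => ?_, fun ha => ?_⟩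
  · simpa using E.range_normalizes r⁻¹ (inv_mem hr) a ha
  · simpa [mul_assoc] using E.range_normalizes r hr _ ha

theorem jt_notMem_norm : jt ∉ normalizer (E.EE : Set J) := by
  intro h
  haveI := S1703.simple
  haveI : Finite J := Nat.finite_of_card_ne_zero (by rw [card_J]; norm_num)
  have hall : normalizer (E.EE : Set J) = ⊤ := by
    refine eq_top_iff.2 ?_
    rw [← gen_top, Subgroup.closure_le]
    rintro g (hg | rfl)
    · exact HH_le_norm (range_le hg)
    · exact h
  have hn : E.EE.Normal := normalizer_eq_top_iff.1 hall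
  rcases hn.eq_bot_or_eq_top with e | e
  · have := card_EE; rw [e, Subgroup.card_bot] at this; norm_num at this
  · have := card_EE; rw [e, Subgroup.card_top, card_J] at this; norm_num at this

end Facts

variable {G : Type u} [Group G] [Finite G]

/-- An involution commuting with commuting elements of orders 3 and 7 commutes with the centraliser of the
element of order 3. -/
theorem central_of_comm [IsSimpleGroup G] (hG : ¬ IsMulCommutative G)
    {c : Ctx G (MulAut ↥Spor.M22)} (hc : c.Ok) {t d r : G} (ht : orderOf t = 2) (hd : orderOf d = 3)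
    (hr : orderOf r = 7) (htd : Commute t d) (hrd : Commute r d) (htr : Commute t r)
    {a : G} (ha : Commute a d) : Commute t a := by
  have hA := H85.AutM22.autData
  haveI : Fact (Nat.Prime 7) := ⟨by norm_num⟩
  haveI : Finite (MulAut ↥Spor.M22) := hA.finite
  obtain ⟨p, hp, hp1⟩ := hc.exists_p
  have hop : orderOf p = 3 :=
    haveI : Fact (Nat.Prime 3) := ⟨Nat.prime_three⟩
    orderOf_eq_prime (by rw [pow_three']; exact hc.P_pow hp) hp1
  obtain ⟨k, hk⟩ := isConj_iff.1 (hc.one_class hA hG hop hd)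
  have hzp : zpowers p = c.P := PGroups.zpowers_eq_of_card_eq hc.cardP hp hp1
  have hmem : ∀ b, Commute b d → k⁻¹ * b * k ∈ c.C := by
    intro b hb
    rw [← hc.cent_P hA hG, mem_centralizer_iff]
    intro q hq
    rw [← hzp] at hq
    obtain ⟨i, rfl⟩ := mem_zpowers_iff.1 hq
    have hdk : k⁻¹ * d * k = p := by rw [← hk]; group
    have h1 : Commute (k⁻¹ * b * k) p := by
      rw [← hdk]
      have h2 := hb.map (MulAut.conj k⁻¹)
      simpa [MulAut.conj_apply] using h2
    exact ((h1.zpow_right i).eq).symm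
  have htC := hmem t htd
  have hrC := hmem r hrd
  have haC := hmem a ha
  have hto : orderOf (k⁻¹ * t * k) = 2 := by
    have := (MulEquiv.orderOf_eq (MulAut.conj k⁻¹) t).trans ht
    simpa [MulAut.conj_apply] using this
  have hro : orderOf (k⁻¹ * r * k) = 7 := by
    have := (MulEquiv.orderOf_eq (MulAut.conj k⁻¹) r).trans hr
    simpa [MulAut.conj_apply] using this
  set t' := k⁻¹ * t * k with ht'
  set r' := k⁻¹ * r * k with hr'
  have hC6 : ∀ {x}, x ∈ c.C → c.pr x = 1 → x ^ 6 = 1 := by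
    intro x hx h1
    obtain ⟨q, hq, e⟩ := hc.C_ker hx h1
    have h3 : q ^ 3 = 1 := by rw [pow_three']; exact hc.P_pow hq
    rcases e with rfl | rfl
    · rw [show 6 = 3 * 2 from rfl, pow_mul, h3, one_pow]
    · rw [(show Commute c.z q from c.mem_H.1 (hc.P_le hq)).mul_pow, show 6 = 2 * 3 from rfl, pow_mul,
        pow_two, hc.z_sq, one_pow, one_mul, show 2 * 3 = 3 * 2 from rfl, pow_mul, h3, one_pow]
  have hpr7 : orderOf (c.pr r') = 7 := by
    refine orderOf_eq_prime ?_ fun e => ?_
    · have h7 : r' ^ 7 = 1 := by rw [← hro, pow_orderOf_eq_one]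
      rw [show c.pr r' = hc.prHom ⟨r', hrC.1⟩ from rfl, ← map_pow,
        show (⟨r', hrC.1⟩ : c.H) ^ 7 = 1 from Subtype.ext h7, map_one]
    · have := orderOf_dvd_of_pow_eq_one (hC6 hrC e)
      rw [hro] at this; norm_num at this
  obtain ⟨hcard, ⟨u, huM, hu⟩, -, -⟩ := H54.AutTwentyTwo.seven_aut hpr7
  set Cr := centralizer ({c.pr r'} : Set (MulAut ↥Spor.M22)) with hCr
  set K := (MulAut.conj : ↥Spor.M22 →* MulAut ↥Spor.M22).range ⊓ Cr with hK
  have htK : c.pr t' ∈ K := by
    refine mem_inf.2 ⟨(hc.mem_C_iff hA (c.C_le_Nh htC)).1 htC, mem_centralizer_singleton_iff.2 ?_⟩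
    rw [← hc.pr_mul _ htC.1 _ hrC.1, ← hc.pr_mul _ hrC.1 _ htC.1]
    congr 1
    simpa [ht', hr', MulAut.conj_apply] using (htr.map (MulAut.conj k⁻¹)).eq
  have hrK : c.pr r' ∈ K :=
    mem_inf.2 ⟨(hc.mem_C_iff hA (c.C_le_Nh hrC)).1 hrC, mem_centralizer_singleton_iff.2 rfl⟩
  have h7K : 7 ∣ Nat.card K := hpr7 ▸ Subgroup.orderOf_dvd_natCard K hrK
  have h14 : Nat.card K ∣ 14 := hcard ▸ Subgroup.card_dvd_of_le inf_le_right
  have hne : Nat.card K ≠ 14 := fun e => huM (mem_inf.1 (show u ∈ K by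
    have hKC : K = Cr := Subgroup.eq_of_le_of_card_ge (inf_le_right : K ≤ Cr) (by rw [hcard, e])
    rw [hKC]
    exact mem_centralizer_singleton_iff.2 hu)).1
  have hK7 : Nat.card K = 7 := by
    have hall : ∀ j ∈ Nat.divisors 14, 7 ∣ j → j ≠ 14 → j = 7 := by decide +kernel
    exact hall _ (Nat.mem_divisors.2 ⟨h14, by norm_num⟩) h7K hne
  have ht1 : c.pr t' = 1 := by
    have d7 : orderOf (c.pr t') ∣ 7 := hK7 ▸ Subgroup.orderOf_dvd_natCard K htK
    have d2 : orderOf (c.pr t') ∣ 2 := by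
      rw [orderOf_dvd_iff_pow_eq_one, show c.pr t' = hc.prHom ⟨t', htC.1⟩ from rfl, ← map_pow,
        show (⟨t', htC.1⟩ : c.H) ^ 2 = 1 from Subtype.ext (show t' ^ 2 = 1 by rw [← hto, pow_orderOf_eq_one]),
        map_one]
    exact orderOf_eq_one_iff.1 (Nat.eq_one_of_dvd_one (by
      have := Nat.dvd_gcd d2 d7; simpa using this))
  have htz : t' = c.z := by
    obtain ⟨q, hq, e⟩ := hc.C_ker htC ht1
    have hq3 : q ^ 3 = 1 := by rw [pow_three']; exact hc.P_pow hq
    have h2 : t' ^ 2 = 1 := by rw [← hto, pow_orderOf_eq_one]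
    rcases e with e | e
    · exfalso
      have h1 : orderOf t' ∣ 3 := orderOf_dvd_of_pow_eq_one (e ▸ hq3)
      rw [hto] at h1; norm_num at h1
    · have hq2 : q ^ 2 = 1 := by
        rw [e, (show Commute c.z q from c.mem_H.1 (hc.P_le hq)).mul_pow, pow_two c.z, hc.z_sq,
          one_mul] at h2
        exact h2
      have : q = 1 := by
        calc q = q ^ 3 * (q ^ 2)⁻¹ := by group
          _ = 1 := by rw [hq3, hq2, inv_one, mul_one]
      rw [e, this, mul_one]
  have h1 : Commute t' (k⁻¹ * a * k) := by rw [htz]; exact c.mem_H.1 haC.1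
  have h2 := h1.map (MulAut.conj k)
  simpa [ht', MulAut.conj_apply, mul_assoc] using h2

/-- A group of Janko-four type with a non-trivial map from presented J4 is isomorphic to it. -/
theorem isoJ4_of_hom [IsSimpleGroup G] (hG : ¬ IsMulCommutative G) {z : G}
    (hJ : Cfsg.IsOfJankoFourTypeAt z) (f : J →* G) (hft : f jt ≠ 1) : Cfsg.Spor.IsoJ4 G := by
  classical
  obtain ⟨c, W, W', a₀, b₀, u₀, rfl, hE, hti, h, h', hS, hF⟩ := exists_full_setup hG hJ
  obtain ⟨K₀, hK₀, hK₀V, hsup₀, ⟨e₀⟩⟩ := H38.JFour.exists_mathieu_complement h h' hS hF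
  have hcent := h.cent_le_of_model hF hE hti fun t htV ht1 htz =>
    H38.JFour.exists_tmodel h hF hE hti ⟨hK₀, hK₀V, hsup₀⟩ htV ht1 htz
  have hJs := S1703.simple
  haveI := hJs
  haveI : Finite J := Nat.finite_of_card_ne_zero (by rw [card_J]; norm_num)
  have hinj0 : Function.Injective f := by
    rw [← MonoidHom.ker_eq_bot_iff]
    refine (MonoidHom.normal_ker f).eq_bot_or_eq_top.resolve_right fun e => hft ?_
    rw [MonoidHom.ker_eq_top_iff] at e
    rw [e]; rfl
  obtain ⟨g, hg⟩ := h.exists_conj_V (elem_map f elem_EE)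
    (by rw [← Nat.card_congr (E.EE.equivMapOfInjective f hinj0).toEquiv, card_EE])
  set F : J →* G := (MulAut.conj g).toMonoidHom.comp f with hFdef
  have hinj : Function.Injective F := (MulAut.conj g).injective.comp hinj0
  have hVE : E.EE.map F = h.V := by rw [hFdef, ← Subgroup.map_map]; exact hg
  set X := F.range with hX
  have hN : normalizer (h.V : Set G) = HH.map F := by
    refine (Subgroup.eq_of_le_of_card_ge ?_ ?_).symm
    · rintro _ ⟨b, hb, rfl⟩
      rw [← hVE]
      exact le_normalizer_map F ⟨b, HH_le_norm hb, rfl⟩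
    · have hc1 : Nat.card (normalizer (h.V : Set G)) ≤ Nat.card h.V * Nat.card K₀ := by
        refine (Nat.card_mono (Set.toFinite _) ?_).trans Set.natCard_mul_le
        intro x hx
        rw [← coe_mul_of_right_le_normalizer_left h.V K₀ hK₀, hsup₀]
        exact hx
      rw [h.card_V, Nat.card_congr e₀.toEquiv, Cfsg.Agent.Golay.card_M24] at hc1
      rw [← Nat.card_congr (HH.equivMapOfInjective F hinj).toEquiv, card_HH]
      exact hc1
  have hNX : normalizer (h.V : Set G) ≤ X := by rw [hN]; exact map_le_range F HH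
  have hVX : h.V ≤ X := Subgroup.le_normalizer.trans hNX
  -- an element of `V` centralised by `t`
  set t := F jt with ht
  set d := F (phi ((gX * gW) ^ 7)) with hd
  set r := F (phi ((gX * gW) ^ 3)) with hr
  have hto : orderOf t = 2 := by
    haveI : Fact (Nat.Prime 2) := ⟨Nat.prime_two⟩
    refine orderOf_eq_prime (by rw [ht, ← map_pow, pow_two, jt_sq, map_one]) fun e => hft ?_
    have : jt = 1 := hinj (e.trans (map_one F).symm)
    rw [this, map_one]
  have hphi : ∀ b, orderOf (F (phi b)) = orderOf b := fun b => by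
    rw [orderOf_injective F hinj, orderOf_injective phi phi_injective]
  have hdo : orderOf d = 3 := by rw [hd, hphi, orderOf_pow' _ (by norm_num), orderOf_u]; rfl
  have hro : orderOf r = 7 := by rw [hr, hphi, orderOf_pow' _ (by norm_num), orderOf_u]; rfl
  have htd : Commute t d := by rw [ht, hd, map_pow]; exact (jt_comm_u.pow_right 7).map F
  have htr : Commute t r := by rw [ht, hr, map_pow]; exact (jt_comm_u.pow_right 3).map F
  have hrd : Commute r d := by
    rw [hd, hr]; exact (((Commute.refl (gX * gW)).pow_pow 3 7).map phi).map F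
  have htN : t ∉ normalizer (h.V : Set G) := by
    intro e
    refine jt_notMem_norm (mem_normalizer_iff.2 fun b => ?_)
    rw [← hVE] at e
    have := mem_normalizer_iff.1 e (F b)
    rwa [mem_map_iff_mem hinj, ht, ← map_inv, ← map_mul, ← map_mul, mem_map_iff_mem hinj] at this
  have hdN : d ∈ normalizer (h.V : Set G) := by
    rw [hN]; exact ⟨_, range_le ⟨_, rfl⟩, rfl⟩
  obtain ⟨a, haV, ha1, had⟩ : ∃ a ∈ h.V, a ≠ 1 ∧ Commute a d := by
    by_contra hall
    push Not at hall
    haveI : Fact (Nat.Prime 3) := ⟨Nat.prime_three⟩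
    have h3 : d ^ 3 = 1 := by rw [← hdo, pow_orderOf_eq_one]
    set φ : h.V → h.V := fun v =>
      ⟨d * v * d⁻¹, (mem_normalizer_iff.1 hdN v).1 v.2⟩ with hφ
    have hiter : φ^[3] = id := by
      funext v
      apply Subtype.ext
      show d * (d * (d * (v : G) * d⁻¹) * d⁻¹) * d⁻¹ = v
      rw [show d * (d * (d * (v : G) * d⁻¹) * d⁻¹) * d⁻¹ = (d * d * d) * v * (d * d * d)⁻¹ by group,
        ← pow_three', h3, one_mul, inv_one, mul_one]
    have h1 := H54.JFour.card_mod_fixed φ hiter
    let i : Unique {v : h.V // φ v = v} :=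
      { default := ⟨1, Subtype.ext (by simp [hφ])⟩
        uniq := fun v => Subtype.ext (Subtype.ext (by
          by_contra hne
          exact hall _ v.1.2 hne
            (mul_inv_eq_iff_eq_mul.1 (congrArg Subtype.val v.2)).symm)) }
    have h1' : Nat.card {v : h.V // φ v = v} = 1 :=
      Nat.card_eq_one_iff_unique.2 ⟨⟨fun x y => (i.uniq x).trans (i.uniq y).symm⟩, ⟨i.default⟩⟩
    rw [h1'] at h1
    rw [h.card_V] at h1
    norm_num at h1
  have hta : Commute t a := central_of_comm hG h.hc hto hdo hro htd hrd htr had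
  have haz : IsConj c.z a := by
    by_contra hne
    exact htN (hcent a haV ha1 hne (mem_centralizer_singleton_iff.2 hta.eq))
  obtain ⟨n, hn, hna⟩ := h.fusion haV haz
  have hHX : c.H ≤ X := by
    refine cent_z_le h hti (X := X) ?_ (g := n⁻¹ * t * n) ?_ ?_ ?_
    · rw [h.NH_eq]; exact inf_le_right.trans hNX
    · refine c.mem_H.2 ?_
      have hzn : n⁻¹ * a * n = c.z := by rw [← hna]; group
      rw [← hzn]
      calc n⁻¹ * a * n * (n⁻¹ * t * n) = n⁻¹ * (a * t) * n := by group
        _ = n⁻¹ * t * n * (n⁻¹ * a * n) := by rw [← hta.eq]; group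
    · exact mul_mem (mul_mem (inv_mem (hNX hn)) ⟨jt, rfl⟩) (hNX hn)
    · intro e
      refine htN ?_
      have := mul_mem (mul_mem hn e) (inv_mem hn)
      simpa [mul_assoc] using this
  -- the image is of Janko-four type
  have hzX : c.z ∈ X := hHX h.hc.z_mem_H
  have hXtype : Cfsg.IsOfJankoFourTypeAt (⟨c.z, hzX⟩ : X) := by
    obtain ⟨P, hP⟩ := hJ
    exact ⟨_, type_restrict X.subtype_injective (by rw [Subgroup.range_subtype]; exact hHX) hP⟩
  let eX : J ≃* X := MonoidHom.ofInjective hinj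
  haveI : IsSimpleGroup X := eX.symm.isSimpleGroup
  have hGX : ¬ IsMulCommutative X := by
    intro hcomm
    refine jt_notMem_norm (mem_normalizer_iff.2 fun b => ?_)
    have : jt * b = b * jt := eX.injective (by rw [map_mul, map_mul]; exact mul_comm' _ _)
    rw [this, mul_inv_cancel_right]
  obtain ⟨cX, WX, WX', aX, bX, uX, -, -, htiX, hPX, -, -, hFX⟩ := exists_full_setup hGX hXtype
  have hreach : ∀ w : X, w * w = 1 → w ≠ 1 → ∃ v : X, (v : G) ∈ h.V ∧ IsConj w v := by
    intro w hw hw1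
    haveI : Fact (Nat.Prime 2) := ⟨Nat.prime_two⟩
    obtain ⟨v, hv, hwv⟩ := hPX.reach_all hFX htiX H98.JFour.outerInR_autM22 hGX hw hw1
    obtain ⟨T0, hT0, -, -⟩ := h.exists_sylow
    have hT0X : (T0 : Subgroup G) ≤ X := fun y hy => hHX (hT0 hy).1
    obtain ⟨T, hT⟩ := (IsPGroup.of_card hPX.card_V : IsPGroup 2 hPX.V).exists_le_sylow
    obtain ⟨k, hk⟩ := MulAction.exists_smul_eq X T (T0.subtype hT0X)
    have hmap : (hPX.V.map (MulAut.conj k).toMonoidHom).map X.subtype = h.V := by
      refine h.eq_V ?_ (elem_map _ (elem_map _ hPX.elem_V)) ?_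
      · rintro _ ⟨_, ⟨y, hy, rfl⟩, rfl⟩
        refine hT0 ?_
        have h2 : MulAut.conj k y ∈ ((k • T : Sylow 2 X) : Subgroup X) := by
          rw [Sylow.coe_subgroup_smul]
          exact Subgroup.smul_mem_pointwise_smul _ (MulAut.conj k) _ (hT hy)
        rw [hk, Sylow.coe_subtype, mem_subgroupOf] at h2
        exact h2
      · rw [Subgroup.card_map_of_injective X.subtype_injective,
          Subgroup.card_map_of_injective (MulAut.conj k).injective, hPX.card_V]
    exact ⟨k * v * k⁻¹, hmap ▸ ⟨_, ⟨v, hv, rfl⟩, rfl⟩, hwv.trans (isConj_iff.2 ⟨k, rfl⟩)⟩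
  have hcentX : ∀ w ∈ X, orderOf w = 2 → centralizer ({w} : Set G) ≤ X := by
    intro w hwX hw
    have hw2 : (⟨w, hwX⟩ : X) * ⟨w, hwX⟩ = 1 := Subtype.ext (by
      show w * w = 1; rw [← pow_two, ← hw, pow_orderOf_eq_one])
    have hw1 : (⟨w, hwX⟩ : X) ≠ 1 := fun e => by
      rw [show w = 1 from congrArg Subtype.val e, orderOf_one] at hw; omega
    obtain ⟨v, hv, hwv⟩ := hreach _ hw2 hw1
    obtain ⟨k, hk⟩ := isConj_iff.1 hwv
    have hk' : (k : G) * w * (k : G)⁻¹ = v := congrArg Subtype.val hk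
    have hv1 : (v : G) ≠ 1 := fun e => hw1 (by
      have : v = 1 := Subtype.ext e
      rw [this] at hwv; exact isConj_one_left.1 hwv)
    have hCv : centralizer ({(v : G)} : Set G) ≤ X := by
      by_cases hvz : IsConj c.z (v : G)
      · obtain ⟨m, hm, hme⟩ := h.fusion hv hvz
        intro x hx
        rw [mem_centralizer_singleton_iff] at hx
        have : m⁻¹ * x * m ∈ c.H := c.mem_H.2 (by
          have hzm : m⁻¹ * (v : G) * m = c.z := by rw [← hme]; group
          rw [← hzm]
          calc m⁻¹ * v * m * (m⁻¹ * x * m) = m⁻¹ * (v * x) * m := by group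
            _ = m⁻¹ * x * m * (m⁻¹ * v * m) := by rw [← hx]; group)
        have h2 := mul_mem (mul_mem (hNX hm) (hHX this)) (inv_mem (hNX hm))
        simpa [mul_assoc] using h2
      · exact (hcent _ hv hv1 hvz).trans hNX
    intro x hx
    rw [mem_centralizer_singleton_iff] at hx
    have h1 : (k : G) * x * (k : G)⁻¹ ∈ centralizer ({(v : G)} : Set G) := by
      rw [mem_centralizer_singleton_iff, ← hk']
      calc (k : G) * x * (k : G)⁻¹ * (k * w * (k : G)⁻¹) = k * (x * w) * (k : G)⁻¹ := by group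
        _ = k * w * (k : G)⁻¹ * (k * x * (k : G)⁻¹) := by rw [hx]; group
    have h2 := mul_mem (mul_mem (inv_mem k.2) (hCv h1)) k.2
    simpa [mul_assoc] using h2
  obtain ⟨s, hsV, hs1, hsz⟩ : ∃ s ∈ h.V, s ≠ 1 ∧ ¬ IsConj c.z s := by
    obtain ⟨s, hs⟩ := Set.nonempty_of_ncard_ne_zero (s := h.fib h.rest 1)
      (by rw [(h.rest_A7 hF).1]; norm_num)
    exact ⟨s, h.rest_inv.sub hs.1, hs.1.1.2, fun e => hs.1.2 (h.fusion (h.rest_inv.sub hs.1) e)⟩
  have hso : orderOf s = 2 := orderOf_eq_prime (hp := ⟨Nat.prime_two⟩)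
    (by rw [pow_two]; exact h.V_sq hsV) hs1
  have hXtop : X = ⊤ := eq_top_of_cent h.hc.ord hzX hso hsz hcentX
  exact ⟨(MulEquiv.ofBijective F ⟨hinj, MonoidHom.range_eq_top.1 hXtop⟩).symm⟩

end Cfsg.Agent.H69.J4U
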