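import Cfsg.Agent.H98.JFour.CentT
import Cfsg.Agent.H98.JFour.Orbits
import Cfsg.Agent.H98.JFour.Cores

/-!
A subgroup containing the normaliser of `V` and one more element centralising `z` contains the whole
centraliser of `z`; a subgroup containing the centralisers of all its involutions is everything when
there are two classes of involutions.
-/

set_option autoImplicit false

namespace Cfsg.Agent.H69.J4U

open Subgroup Cfsg.Agent.H43.JFour Cfsg.Agent.H98.JFour

universe u v

variable {G : Type u} [Group G] [Finite G] {A : Type v} [Group A] {c : Ctx G A} {M W : Subgroup A}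

/-- The hexad group is maximal: the centraliser of `z` lies in every subgroup containing its part in the
normaliser of `V` and something more of it. -/
theorem cent_z_le (h : Pkg c M W) (hti : HexTI W) {X : Subgroup G} (hNH : h.NH ≤ X) {g : G}
    (hgH : g ∈ c.H) (hgX : g ∈ X) (hgV : g ∉ normalizer (h.V : Set G)) : c.H ≤ X := by
  haveI := h.finiteA
  set S := h.hc.img (c.H ⊓ X) with hS
  have hmem : ∀ {α : A}, α ∈ S ↔ _ := fun {α} => h.hc.mem_img (inf_le_left : c.H ⊓ X ≤ c.H)
  have hEP : c.E ⊔ c.P ≤ h.NH := fun x hx =>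
    ⟨h.hc.N_le hx, by rw [(h.hc.pr_ker x (h.hc.N_le hx)).2 hx]; exact one_mem _⟩
  have hNS : normalizer (W : Set A) ≤ S := fun α hα => by
    obtain ⟨x, hx, rfl⟩ := h.hc.pr_surj α
    exact h.hc.pr_mem_img inf_le_left (mem_inf.2 ⟨hx, hNH ⟨hx, hα⟩⟩)
  have hWS : W ≤ S := Subgroup.le_normalizer.trans hNS
  obtain ⟨k, hk4, hk⟩ := index_mod_four h.hW h.hd hti hWS
  have hN : Nat.card ↥(S ⊓ normalizer (W : Set A)) = 11520 := by
    rw [inf_eq_right.2 hNS]; exact h.hW.card_norm
  rw [hN] at hk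
  have hk77 : k ∣ 77 := by
    have hd := Subgroup.card_subgroup_dvd_card S
    rw [hk, h.hd.card, show 887040 = 77 * 11520 by norm_num] at hd
    exact Nat.dvd_of_mul_dvd_mul_right (by norm_num) hd
  have hall : ∀ j ∈ Nat.divisors 77, j % 4 = 1 → j = 1 ∨ j = 77 := by decide +kernel
  rcases hall k (Nat.mem_divisors.2 ⟨hk77, by norm_num⟩) hk4 with rfl | rfl
  · exfalso
    refine hgV ?_
    have hgS : c.pr g ∈ S := h.hc.pr_mem_img inf_le_left (mem_inf.2 ⟨hgH, hgX⟩)
    rw [← Subgroup.eq_of_le_of_card_ge hNS (by rw [hk, h.hW.card_norm, one_mul])] at hgS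
    have : g ∈ h.NH := ⟨hgH, hgS⟩
    rw [h.NH_eq] at this
    exact (mem_inf.1 this).2
  · have hT : S = ⊤ := Subgroup.eq_top_of_card_eq S (by rw [hk, h.hd.card])
    intro x hx
    have hxS : c.pr x ∈ S := by rw [hT]; exact mem_top _
    obtain ⟨y, hy, e⟩ := hmem.1 hxS
    obtain ⟨hyH, hyX⟩ := mem_inf.1 hy
    have h1 : c.pr (x * y⁻¹) = 1 := by
      rw [h.hc.pr_mul _ hx _ (inv_mem hyH), h.hc.pr_inv hyH, e, mul_inv_cancel]
    have h2 : x * y⁻¹ ∈ X := hNH (hEP ((h.hc.pr_ker _ (mul_mem hx (inv_mem hyH))).1 h1))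
    simpa using mul_mem h2 hyX

omit [Finite G] in
/-- A commuting involution for two involutions that are not conjugate. -/
theorem exists_commuting_pair {z j : G} (hz : orderOf z = 2) (hj : orderOf j = 2)
    (hfin : IsOfFinOrder (z * j)) (hne : ¬ IsConj z j) :
    ∃ w : G, orderOf w = 2 ∧ Commute w z ∧ Commute w j := by
  have hzz : z * z = 1 := by rw [← pow_two, ← hz, pow_orderOf_eq_one]
  have hjj : j * j = 1 := by rw [← pow_two, ← hj, pow_orderOf_eq_one]
  set d := z * j with hd
  have hzd : z * d * z⁻¹ = d⁻¹ := by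
    rw [hd, mul_inv_rev, inv_eq_of_mul_eq_one_left hzz, inv_eq_of_mul_eq_one_left hjj,
      show z * (z * j) = z * z * j from (mul_assoc _ _ _).symm, hzz, one_mul]
  have hjd : j * d * j⁻¹ = d⁻¹ := by
    rw [hd, mul_inv_rev, inv_eq_of_mul_eq_one_left hzz, inv_eq_of_mul_eq_one_left hjj,
      show j * (z * j) * j = j * z * (j * j) by group, hjj, mul_one]
  rcases Nat.even_or_odd (orderOf d) with ⟨m, hm⟩ | ⟨m, hm⟩
  · have hpos := hfin.orderOf_pos
    refine ⟨d ^ m, ?_, ?_, ?_⟩
    · refine orderOf_eq_prime (by rw [← pow_mul, show m * 2 = orderOf d by omega, pow_orderOf_eq_one])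
        (pow_ne_one_of_lt_orderOf (by omega) (by omega))
    all_goals
      have hinv : (d ^ m)⁻¹ = d ^ m := by
        refine inv_eq_of_mul_eq_one_left ?_
        rw [← pow_add, ← hm, pow_orderOf_eq_one]
      refine Commute.symm ?_
      refine mul_inv_eq_iff_eq_mul.1 ?_
      rw [← conj_pow]
    · rw [hzd, inv_pow, hinv]
    · rw [hjd, inv_pow, hinv]
  · refine absurd (isConj_iff.2 ⟨d ^ m * z, ?_⟩) hne
    have h1 : z * d ^ m * z⁻¹ = (d ^ m)⁻¹ := by rw [← conj_pow, hzd, inv_pow]
    have h2 : d ^ (2 * m + 1) = 1 := by rw [← hm, pow_orderOf_eq_one]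
    calc d ^ m * z * z * (d ^ m * z)⁻¹ = d ^ m * z * (d ^ m)⁻¹ := by
          rw [mul_inv_rev, mul_assoc (d ^ m) z z, hzz, mul_one, ← mul_assoc,
            inv_eq_of_mul_eq_one_left hzz]
      _ = d ^ m * (d ^ m) * z := by
          rw [mul_assoc, mul_assoc]; congr 1
          rw [← h1, ← mul_assoc, ← mul_assoc, hzz, one_mul, inv_eq_of_mul_eq_one_left hzz]
      _ = d ^ (2 * m) * z := by rw [← pow_add, two_mul]
      _ = d⁻¹ * z := by
          congr 1
          exact eq_inv_of_mul_eq_one_left (by rw [← pow_succ]; exact h2)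
      _ = j := by
          rw [hd, mul_inv_rev, inv_eq_of_mul_eq_one_left hzz, inv_eq_of_mul_eq_one_left hjj,
            mul_assoc, hzz, mul_one]

/-- A subgroup containing the centralisers of its involutions is everything if there is a second class. -/
theorem eq_top_of_cent [IsSimpleGroup G] {X : Subgroup G} {z t : G} (hz : orderOf z = 2) (hzX : z ∈ X)
    (ht : orderOf t = 2) (hne : ¬ IsConj z t)
    (hcent : ∀ w ∈ X, orderOf w = 2 → centralizer ({w} : Set G) ≤ X) : X = ⊤ := by
  have hall : ∀ g : G, g * t * g⁻¹ ∈ X := by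
    intro g
    have hj : orderOf (g * t * g⁻¹) = 2 := by
      rw [← MulAut.conj_apply, MulEquiv.orderOf_eq]; exact ht
    obtain ⟨w, hw, hwz, hwj⟩ := exists_commuting_pair hz hj (isOfFinOrder_of_finite _)
      fun e => hne (e.trans (isConj_iff.2 ⟨g⁻¹, by group⟩))
    exact hcent w (hcent z hzX hz (mem_centralizer_singleton_iff.2 hwz.eq)) hw
      (mem_centralizer_singleton_iff.2 hwj.symm.eq)
  have hle : normalClosure ({t} : Set G) ≤ X := by
    refine (Subgroup.closure_le _).2 fun y hy => ?_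
    obtain ⟨t', rfl, hc⟩ := Group.mem_conjugatesOfSet_iff.1 hy
    obtain ⟨g, rfl⟩ := isConj_iff.1 hc
    exact hall g
  rcases (inferInstance : (normalClosure ({t} : Set G)).Normal).eq_bot_or_eq_top with e | e
  · exfalso
    have h1 : t ∈ (⊥ : Subgroup G) := e ▸ subset_normalClosure rfl
    rw [mem_bot] at h1
    rw [h1, orderOf_one] at ht
    omega
  · exact eq_top_iff.2 (e ▸ hle)

end Cfsg.Agent.H69.J4U
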